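import Groth.Agent.GrpAct.TorsorMap
import Groth.Agent.Assoc.Kernel
import Groth.Agent.HMu.Translate
import Groth.Prelude.Def_GLinSh
import Groth.Prelude.Def_ChGrp
import Mathlib.AlgebraicGeometry.AlgClosed.Basic
import Mathlib.AlgebraicGeometry.Morphisms.QuasiFinite
import Mathlib.AlgebraicGeometry.Morphisms.Flat
import Mathlib.AlgebraicGeometry.ZariskisMainTheorem

/-!
# Orbits and stabilisers along a torsor under a normal subgroup
-/

set_option autoImplicit false
set_option backward.isDefEq.respectTransparency false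
set_option linter.style.haveILetI false

universe u

open CategoryTheory CategoryTheory.Limits MonoidalCategory CartesianMonoidalCategory MonObj GrpObj
  AlgebraicGeometry

noncomputable section

namespace Groth.Agent.OrbitTorsor

/-- finite over an algebraically closed field = finitely many sections -/
theorem isFinite_iff_finite_sections {Ω : Type u} [Field Ω] [IsAlgClosed Ω] {Z P : Scheme.{u}}
    (f : Z ⟶ P) (e : P ≅ Spec (CommRingCat.of Ω)) [LocallyOfFiniteType f] :
    IsFinite f ↔ Finite {s : P ⟶ Z // s ≫ f = 𝟙 P} := by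
  let g := f ≫ e.hom
  have eq : {s : P ⟶ Z // s ≫ f = 𝟙 P} ≃ closedPoints Z :=
    Equiv.trans
      { toFun := fun s => (⟨e.inv ≫ s.1, by
          show (e.inv ≫ s.1) ≫ f ≫ e.hom = 𝟙 _
          rw [Category.assoc, reassoc_of% s.2, Iso.inv_hom_id]⟩ : {p : Spec (CommRingCat.of Ω) ⟶ Z // p ≫ g = 𝟙 _})
        invFun := fun p => ⟨e.hom ≫ p.1, by
          rw [← cancel_mono e.hom, Category.assoc, Category.assoc, p.2, Category.comp_id, Category.id_comp]⟩
        left_inv := fun s => Subtype.ext (by simp)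
        right_inv := fun p => Subtype.ext (by simp) }
      (pointEquivClosedPoint g)
  rw [Equiv.finite_iff eq]
  haveI : JacobsonSpace ↥Z := LocallyOfFiniteType.jacobsonSpace g
  haveI : Subsingleton ↥P := by
    haveI : Subsingleton ↥(Spec (CommRingCat.of Ω)) := inferInstanceAs (Subsingleton (PrimeSpectrum Ω))
    exact e.hom.homeomorph.toEquiv.subsingleton
  constructor
  · intro _
    haveI : Finite ↥Z := by
      refine Set.finite_univ_iff.mp ?_
      rcases isEmpty_or_nonempty ↥Z with hZ | ⟨⟨z⟩⟩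
      · exact Set.finite_empty.subset fun z => isEmptyElim z
      · exact (f.finite_preimage_singleton (f z)).subset fun w _ => Subsingleton.elim (f w) (f z)
    infer_instance
  · intro hfin
    have hcl : IsClosed (closedPoints Z) := by
      rw [← Set.biUnion_of_singleton (closedPoints Z)]
      exact (Set.toFinite _).isClosed_biUnion fun z hz => hz
    have huniv : closedPoints Z = Set.univ := hcl.closure_eq.symm.trans closure_closedPoints
    haveI : Finite ↥Z := Set.finite_univ_iff.mp (huniv ▸ Set.toFinite (closedPoints Z))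
    haveI : T1Space ↥Z := ⟨fun z => (huniv.ge (Set.mem_univ z) : z ∈ closedPoints Z)⟩
    haveI : DiscreteTopology ↥Z := inferInstance
    haveI : CompactSpace ↥Z := ⟨Set.finite_univ.isCompact⟩
    haveI : IsAffine P := IsAffine.of_isIso e.hom
    haveI : QuasiCompact f := (HasAffineProperty.iff_of_isAffine (P := @QuasiCompact)).mpr inferInstance
    haveI : LocallyQuasiFinite f := locallyQuasiFinite_iff_isDiscrete_preimage_singleton.mpr fun x =>
      ⟨inferInstance⟩
    exact (MorphismProperty.cancel_right_of_respectsIso @IsFinite f e.hom).mp (IsFinite.of_locallyQuasiFinite g)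

variable {S : Scheme.{u}} {G N H X Y P : Over S} [GrpObj G] [GrpObj N] [GrpObj H]
  (a : AlgGrp.Action G X) (aY : AlgGrp.Action H Y) (q : G ⟶ H) [IsMonHom q] (iN : N ⟶ G) [IsMonHom iN]
  (φ : X ⟶ Y) (x : P ⟶ X)

/-- stabilising points -/
abbrev Fix : Type _ := {g : P ⟶ G // lift g x ≫ a.act = x}

/-- sections of the stabiliser are stabilising points -/
def sectionsEquiv : {s : P.left ⟶ GLinSh.stab a x // s ≫ GLinSh.stabTo a x = 𝟙 _} ≃ Fix a x where
  toFun s := ⟨(Over.homMk (s.1 ≫ pullback.fst _ _) (by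
      have h := congrArg (fun f => s.1 ≫ f ≫ (X ⊗ P).hom) (pullback.condition (f := (GIT.psi a x).left)
        (g := (lift x (𝟙 P)).left))
      simp only [Category.assoc, Over.w] at h ⊢
      rw [h, ← Category.assoc]
      exact (congrArg (· ≫ P.hom) s.2).trans (Category.id_comp _)) : P ⟶ G ⊗ P) ≫ fst G P, by
    set j : P ⟶ G ⊗ P := Over.homMk (s.1 ≫ pullback.fst _ _) _
    have hj : j ≫ GIT.psi a x = lift x (𝟙 P) := by
      apply Over.OverMorphism.ext
      show (s.1 ≫ pullback.fst _ _) ≫ (GIT.psi a x).left = _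
      rw [Category.assoc, pullback.condition, ← Category.assoc]
      exact (congrArg (· ≫ (lift x (𝟙 P)).left) s.2).trans (Category.id_comp _)
    have h1 := congrArg (· ≫ fst X P) hj
    have h2 := congrArg (· ≫ snd X P) hj
    simp only [GIT.psi, Category.assoc, lift_fst, lift_snd] at h1 h2
    have : j = lift (j ≫ fst G P) (𝟙 P) := CartesianMonoidalCategory.hom_ext _ _ (by simp) (by simp [h2])
    rw [this, lift_whiskerLeft_assoc, Category.id_comp] at h1
    exact h1⟩
  invFun g := ⟨pullback.lift (lift g.1 (𝟙 P)).left (𝟙 _) (by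
      rw [Category.id_comp, ← Over.comp_left]
      congr 1
      apply CartesianMonoidalCategory.hom_ext <;> simp [GIT.psi, g.2]),
    pullback.lift_snd _ _ _⟩
  left_inv s := by
    ext1
    apply pullback.hom_ext
    · rw [pullback.lift_fst]
      set j : P ⟶ G ⊗ P := Over.homMk (s.1 ≫ pullback.fst _ _) _
      have hj : j ≫ GIT.psi a x = lift x (𝟙 P) := by
        apply Over.OverMorphism.ext
        show (s.1 ≫ pullback.fst _ _) ≫ (GIT.psi a x).left = _
        rw [Category.assoc, pullback.condition, ← Category.assoc]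
        exact (congrArg (· ≫ (lift x (𝟙 P)).left) s.2).trans (Category.id_comp _)
      have h2 := congrArg (· ≫ snd X P) hj
      simp only [GIT.psi, Category.assoc, lift_snd] at h2
      have : j = lift (j ≫ fst G P) (𝟙 P) := CartesianMonoidalCategory.hom_ext _ _ (by simp) (by simp [h2])
      exact (congrArg CommaMorphism.left this).symm
    · rw [pullback.lift_snd]; exact s.2.symm
  right_inv g := by
    apply Subtype.ext
    show Over.homMk _ _ ≫ fst G P = g.1
    ext : 1
    simp only [Over.comp_left, Over.homMk_left, pullback.lift_fst]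
    rw [← Over.comp_left, lift_fst]

variable (hcart : IsPullback (a.restrict iN).act (snd N X) φ φ)
  (hker : AlgGrp.IsKernel iN q) (hequiv : (q ⊗ₘ φ) ≫ aY.act = a.act ≫ φ)

include hcart in
theorem torsor_point {T : Over S} (z z' : T ⟶ X) (he : z' ≫ φ = z ≫ φ) :
    ∃ n : T ⟶ N, lift (n ≫ iN) z ≫ a.act = z' ∧
      ∀ n' : T ⟶ N, lift (n' ≫ iN) z ≫ a.act = z' → n' = n := by
  obtain ⟨w, h1, h2⟩ := hcart.exists_lift z' z he
  have hw : w = lift (w ≫ fst N X) z := CartesianMonoidalCategory.hom_ext _ _ (by simp) (by simp [h2])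
  refine ⟨w ≫ fst N X, ?_, fun n' hn' => ?_⟩
  · rw [← AlgGrp.Action.lift_restrict_act, ← hw, h1]
  · rw [← AlgGrp.Action.lift_restrict_act] at hn'
    have : lift n' z = w := hcart.hom_ext (hn'.trans h1.symm) ((lift_snd _ _).trans h2.symm)
    rw [← this, lift_fst]

include hequiv in
omit [IsMonHom q] in
theorem equiv_point {T : Over S} (g : T ⟶ G) (z : T ⟶ X) :
    (lift g z ≫ a.act) ≫ φ = lift (g ≫ q) (z ≫ φ) ≫ aY.act := by
  rw [Category.assoc, ← hequiv, lift_map_assoc]

include hker in
omit [GrpObj G] [GrpObj N] [IsMonHom q] [IsMonHom iN] in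
theorem kernel_one {T : Over S} (n : T ⟶ N) : (n ≫ iN) ≫ q = 1 := by
  rw [Category.assoc, hker.w, ← Category.assoc, toUnit_unique (n ≫ toUnit N) (toUnit T), Hom.one_def]

include hequiv in
/-- the map on stabilising points -/
def fixMap (g : Fix a x) : Fix aY (x ≫ φ) :=
  ⟨g.1 ≫ q, by rw [← equiv_point a aY q φ hequiv, g.2]⟩

include hcart hker in
theorem fixMap_injective : Function.Injective (fixMap a aY q φ x hequiv) := by
  intro g g' h
  have hq : g'.1 ≫ q = g.1 ≫ q := (congrArg Subtype.val h).symm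
  have hk : (g'.1 * g.1⁻¹) ≫ q = toUnit P ≫ η[H] := by
    rw [← Hom.one_def, MonObj.mul_comp, GrpObj.inv_comp, hq, mul_inv_cancel]
  obtain ⟨n, hn, -⟩ := hker.exists_lift (g'.1 * g.1⁻¹) (toUnit P) hk
  obtain ⟨m, -, hmu⟩ := torsor_point a iN φ hcart x x rfl
  have hginv : lift g.1⁻¹ x ≫ a.act = x := by
    have := congrArg (fun u => lift g.1⁻¹ u ≫ a.act) g.2
    simp only [HMu.act_act, inv_mul_cancel, HMu.one_act] at this
    exact this.symm
  have h1 : n = 1 := (hmu n (by rw [hn, ← HMu.act_act, hginv, g'.2])).trans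
    (hmu 1 (by rw [MonObj.one_comp, HMu.one_act])).symm
  rw [h1, MonObj.one_comp, eq_comm, mul_inv_eq_one] at hn
  exact Subtype.ext hn.symm

include hcart hker in
theorem fixMap_surjective (hlift : ∀ h : P ⟶ H, ∃ g : P ⟶ G, g ≫ q = h) :
    Function.Surjective (fixMap a aY q φ x hequiv) := by
  intro h
  obtain ⟨g₀, hg₀⟩ := hlift h.1
  obtain ⟨n, hn, -⟩ := torsor_point a iN φ hcart (lift g₀ x ≫ a.act) x
    (by rw [equiv_point a aY q φ hequiv, hg₀, h.2])
  rw [HMu.act_act] at hn
  exact ⟨⟨(n ≫ iN) * g₀, hn⟩, Subtype.ext (by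
    show ((n ≫ iN) * g₀) ≫ q = h.1
    rw [MonObj.mul_comp, kernel_one q iN hker, _root_.one_mul, hg₀])⟩

include hequiv in
omit [IsMonHom q] in
theorem psi_comm : GIT.psi a x ≫ (φ ▷ P) = (q ▷ P) ≫ GIT.psi aY (x ≫ φ) := by
  apply CartesianMonoidalCategory.hom_ext
  · simp only [GIT.psi, Category.assoc, whiskerRight_fst, lift_fst, lift_fst_assoc]
    have l1 : G ◁ x = lift (fst G P) (snd G P ≫ x) := CartesianMonoidalCategory.hom_ext _ _ (by simp) (by simp)
    have l2 : (q ▷ P) ≫ (H ◁ (x ≫ φ)) = lift (fst G P ≫ q) ((snd G P ≫ x) ≫ φ) :=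
      CartesianMonoidalCategory.hom_ext _ _ (by simp) (by simp)
    rw [← hequiv, l1, lift_map_assoc, ← l2, Category.assoc]
  · simp [GIT.psi]

include hcart hequiv in
omit [IsMonHom q] in
theorem range_psi [Surjective (q ▷ P).left] :
    Set.range (GIT.psi a x).left.base = (φ ▷ P).left.base ⁻¹' Set.range (GIT.psi aY (x ≫ φ)).left.base := by
  have hcomm := psi_comm a aY q φ x hequiv
  apply Set.Subset.antisymm
  · rintro _ ⟨w, rfl⟩
    exact ⟨(q ▷ P).left w, (congr($(hcomm).left w)).symm⟩
  · rintro z ⟨w', hw'⟩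
    obtain ⟨w, rfl⟩ := (q ▷ P).left.surjective w'
    obtain ⟨c, hc1, hc2⟩ := Scheme.Pullback.exists_preimage_pullback (f := (φ ▷ P).left)
      (g := ((q ▷ P) ≫ GIT.psi aY (x ≫ φ)).left) z w hw'.symm
    let Z := pullback (φ ▷ P).left ((q ▷ P) ≫ GIT.psi aY (x ≫ φ)).left
    let T : Over S := Over.mk (Z.fromSpecResidueField c ≫ pullback.fst _ _ ≫ (X ⊗ P).hom)
    let zT : T ⟶ X ⊗ P := Over.homMk (Z.fromSpecResidueField c ≫ pullback.fst _ _) (Category.assoc _ _ _)
    let wT : T ⟶ G ⊗ P := Over.homMk (Z.fromSpecResidueField c ≫ pullback.snd _ _) (by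
      show (_ ≫ _) ≫ _ = _ ≫ _ ≫ _
      rw [← Over.w (φ ▷ P), pullback.condition_assoc, Over.w, Category.assoc])
    have hT : zT ≫ (φ ▷ P) = wT ≫ (q ▷ P) ≫ GIT.psi aY (x ≫ φ) := by
      apply Over.OverMorphism.ext
      show (Z.fromSpecResidueField c ≫ pullback.fst _ _) ≫ (φ ▷ P).left =
        (Z.fromSpecResidueField c ≫ pullback.snd _ _) ≫ ((q ▷ P) ≫ GIT.psi aY (x ≫ φ)).left
      rw [Category.assoc, Category.assoc, pullback.condition]
    have h1 := congrArg (· ≫ fst Y P) hT
    have h2 := congrArg (· ≫ snd Y P) hT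
    simp only [GIT.psi, Category.assoc, whiskerRight_fst, whiskerRight_snd, lift_fst, lift_snd] at h1 h2
    let g := wT ≫ fst G P
    let t := wT ≫ snd G P
    have hφ : (zT ≫ fst X P) ≫ φ = (lift g (t ≫ x) ≫ a.act) ≫ φ := by
      rw [Category.assoc, h1, equiv_point a aY q φ hequiv,
        show wT = lift g t from CartesianMonoidalCategory.hom_ext _ _ (by simp [g]) (by simp [t]),
        lift_whiskerRight_assoc, lift_whiskerLeft_assoc]
      simp [g, t]
    obtain ⟨n, hn, -⟩ := torsor_point a iN φ hcart _ _ hφ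
    rw [HMu.act_act] at hn
    have hz : lift ((n ≫ iN) * g) t ≫ GIT.psi a x = zT := by
      apply CartesianMonoidalCategory.hom_ext
      · simp [GIT.psi, hn]
      · simp [GIT.psi, h2, t]
    refine ⟨(lift ((n ≫ iN) * g) t).left (IsLocalRing.closedPoint (Z.residueField c)), ?_⟩
    have := congr($(hz).left (IsLocalRing.closedPoint (Z.residueField c)))
    refine this.trans ?_
    show (pullback.fst (φ ▷ P).left ((q ▷ P) ≫ GIT.psi aY (x ≫ φ)).left).base
      ((Z.fromSpecResidueField c).base _) = z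
    rw [Scheme.fromSpecResidueField_apply]
    exact hc1

end Groth.Agent.OrbitTorsor
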